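import Groth.Agent.Lib.BiEquiDim5.Basic
import Groth.Agent.Lib.JacobsonDim4
import Groth.Agent.Lib.FlatDepth.Fibre
import Groth.Agent.Lib.FibDepth5.Bridge

/-!
Rectified depth on the spectrum of a regular biequidimensional ring.
-/

set_option autoImplicit false
set_option linter.style.haveILetI false
set_option backward.isDefEq.respectTransparency false

universe u

open CategoryTheory AlgebraicGeometry TopologicalSpace

namespace Groth.Agent.RectDepth5

open RegLoc

variable {B : Type u} [CommRing B]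

/-- Rectified depth of a module at a prime. -/
noncomputable def f (M : Type u) [AddCommGroup M] [Module B M] (q : PrimeSpectrum B) : WithBot ℕ∞ :=
  ((LocCoh.depth (Localization.AtPrime q.asIdeal) (LocalizedModule q.asIdeal.primeCompl M) : ℕ∞) : WithBot ℕ∞) +
    ringKrullDim (B ⧸ q.asIdeal)

theorem f_eq_top {M : Type u} [AddCommGroup M] [Module B M] (q : PrimeSpectrum B)
    (h : Subsingleton (LocalizedModule q.asIdeal.primeCompl M)) : f M q = ⊤ := by
  rw [f, LocCoh.depth, DepthLib.idealDepth_of_smul_top_eq_top (M := LocalizedModule q.asIdeal.primeCompl M)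
    (by ext z; simp [Subsingleton.elim z 0])]
  haveI : Nontrivial (B ⧸ q.asIdeal) := Ideal.Quotient.nontrivial_iff.2 q.2.ne_top
  exact le_antisymm le_top (le_of_eq_of_le (add_zero _).symm (add_le_add le_rfl ringKrullDim_nonneg_of_nontrivial))

/-- Near a prime `q₀`, all primes have the same minimal prime below them. -/
theorem exists_nhd_minimal [IsRegularRing B] (q₀ : PrimeSpectrum B) :
    ∃ (η : PrimeSpectrum B) (a : B), a ∉ q₀.asIdeal ∧ ∀ q : PrimeSpectrum B, a ∉ q.asIdeal →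
      η ≤ q ∧ ∀ r : PrimeSpectrum B, r ≤ q → η ≤ r := by
  have hdom : IsDomain (Localization.AtPrime q₀.asIdeal) := RegLoc.isDomain _
  obtain ⟨P, hP, hPq⟩ := Ideal.exists_minimalPrimes_le (I := (⊥ : Ideal B)) (J := q₀.asIdeal) bot_le
  let η : PrimeSpectrum B := ⟨P, hP.isPrime⟩
  have hmin : ∀ r : PrimeSpectrum B, r ≤ q₀ → η ≤ r := fun r hr => by
    have hk : RingHom.ker (algebraMap B (Localization.AtPrime q₀.asIdeal)) ≤ r.asIdeal := fun z hz => by
      obtain ⟨s, hs⟩ := (IsLocalization.map_eq_zero_iff q₀.asIdeal.primeCompl _ z).1 hz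
      exact (r.2.mem_or_mem (show s.1 * z ∈ r.asIdeal by rw [hs]; exact zero_mem _)).resolve_left fun h => s.2 (hr h)
    have hkp : (RingHom.ker (algebraMap B (Localization.AtPrime q₀.asIdeal))).IsPrime := RingHom.ker_isPrime _
    have hkP : RingHom.ker (algebraMap B (Localization.AtPrime q₀.asIdeal)) ≤ P := fun z hz => by
      obtain ⟨s, hs⟩ := (IsLocalization.map_eq_zero_iff q₀.asIdeal.primeCompl _ z).1 hz
      exact (hP.isPrime.mem_or_mem (hs ▸ zero_mem _ : s.1 * z ∈ P)).resolve_left fun h => s.2 (hPq h)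
    exact (hP.2 ⟨hkp, bot_le⟩ hkP).trans hk
  obtain ⟨s, hs⟩ : ∃ s : Finset (Ideal B), ∀ Q, Q ∈ s ↔ Q ∈ (⊥ : Ideal B).minimalPrimes ∧ Q ≠ P :=
    ⟨((Ideal.finite_minimalPrimes_of_isNoetherianRing B ⊥).subset
      (Set.sep_subset _ fun Q => Q ≠ P)).toFinset, fun Q => Set.Finite.mem_toFinset _⟩
  have hnot : ¬ s.inf id ≤ q₀.asIdeal := fun h => by
    obtain ⟨Q, hQ, hQq⟩ := (q₀.2.inf_le').1 h
    obtain ⟨hQm, hne⟩ := (hs Q).1 hQ
    exact hne (le_antisymm (hQm.2 ⟨hP.isPrime, bot_le⟩ (hmin ⟨Q, hQm.isPrime⟩ hQq)) (hmin ⟨Q, hQm.isPrime⟩ hQq))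
  obtain ⟨a, ha, haq⟩ := SetLike.not_le_iff_exists.1 hnot
  have key : ∀ q : PrimeSpectrum B, a ∉ q.asIdeal → η ≤ q := fun q hq => by
    obtain ⟨Q, hQ, hQq⟩ := Ideal.exists_minimalPrimes_le (I := (⊥ : Ideal B)) (J := q.asIdeal) bot_le
    by_cases h : Q = P
    · show P ≤ q.asIdeal
      exact h ▸ hQq
    · exact absurd (hQq ((Finset.inf_le ((hs Q).2 ⟨hQ, h⟩) : s.inf id ≤ Q) ha)) hq
  exact ⟨η, a, haq, fun q hq => ⟨key q hq, fun r hr => key r fun h => hq (hr h)⟩⟩

/-- Height and coheight add up, for a ring all of whose closed subschemes behave well. -/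
theorem dim_add_height {S : Scheme.{u}} [IsLocallyNoetherian S] [JacobsonSpace S]
    (h2 : ∀ s : S, CAlg.IsUniversallyCatenary (S.presheaf.stalk s))
    (h3 : ∀ S' ∈ irreducibleComponents (S : Type u), ∀ s ∈ S', IsClosed ({s} : Set S) →
      topologicalKrullDim (↥S' : Type u) = topologicalKrullDim ↥{t : S | t ∈ S' ∧ t ⤳ s})
    {g x : S} (hgx : g ⤳ x) (hmin : ∀ y : S, y ⤳ x → g ⤳ y) :
    topologicalKrullDim ↥(closure {g} : Set S) =
      topologicalKrullDim ↥(closure {x} : Set S) + ringKrullDim (S.presheaf.stalk x) := by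
  obtain ⟨w, hw⟩ := EquidimStalk4.exists_preimage hgx
  rw [JacobsonDim4.dim_closure_add h2 h3 (𝟙 S) hgx w hw, JacobsonDim4.dim_interval w hw]
  congr 1
  have hset : {a : S | g ⤳ a ∧ a ⤳ x} = Set.range (S.fromSpecStalk x) := by
    rw [Scheme.range_fromSpecStalk]
    exact Set.ext fun a => ⟨fun h => h.2, fun h => ⟨hmin a h, h⟩⟩
  rw [hset, ← PrimeSpectrum.topologicalKrullDim_eq_ringKrullDim]
  exact (IsHomeomorph.topologicalKrullDim_eq _ (S.fromSpecStalk x).isEmbedding.toHomeomorph.isHomeomorph).symm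

variable [IsRegularRing B]

/-- The hypothesis on the ring: heights and coheights add up. -/
def Additive (B : Type u) [CommRing B] : Prop :=
  ∀ η q : PrimeSpectrum B, η ≤ q → (∀ r : PrimeSpectrum B, r ≤ q → η ≤ r) →
    ringKrullDim (B ⧸ q.asIdeal) + (q.asIdeal.height : WithBot ℕ∞) = ringKrullDim (B ⧸ η.asIdeal) ∧
      ringKrullDim (B ⧸ η.asIdeal) < ⊤

theorem exists_eq (hB : Additive B) {M : Type u} [AddCommGroup M] [Module B M] [Module.Finite B M]
    (η q : PrimeSpectrum B) (hηq : η ≤ q) (hmin : ∀ r : PrimeSpectrum B, r ≤ q → η ≤ r)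
    (hM : ¬ Subsingleton (LocalizedModule q.asIdeal.primeCompl M)) :
    ∃ v e D : ℕ, v + e = D ∧ f M q = v ∧ ringKrullDim (B ⧸ η.asIdeal) = D ∧
      projectiveDimension (ModuleCat.of (Localization.AtPrime q.asIdeal)
        (LocalizedModule q.asIdeal.primeCompl M)) = e := by
  let R := Localization.AtPrime q.asIdeal
  let N := LocalizedModule q.asIdeal.primeCompl M
  haveI : Nontrivial N := not_subsingleton_iff_nontrivial.1 hM
  obtain ⟨d, hd⟩ := DepthLib.exists_depth_eq_natCast (R := R) (M := N)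
  have hle : projectiveDimension (ModuleCat.of R N) ≤ ((IsLocalRing.maximalIdeal R).spanFinrank : ℕ) :=
    (projectiveDimension_le_iff _ _).2 (RegLoc.pd_le_spanFinrank _ _ rfl _)
  have hbot : projectiveDimension (ModuleCat.of R N) ≠ ⊥ := fun h => by
    have := ModuleCat.subsingleton_of_isZero ((projectiveDimension_eq_bot_iff _).1 h)
    exact not_subsingleton N this
  obtain ⟨e, he⟩ : ∃ e : ℕ, projectiveDimension (ModuleCat.of R N) = e := by
    obtain ⟨z, hz⟩ := WithBot.ne_bot_iff_exists.1 hbot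
    rw [← hz] at hle ⊢
    obtain ⟨e, rfl⟩ := ENat.ne_top_iff_exists.1 (ne_top_of_le_ne_top (ENat.natCast_ne_top _) (WithBot.coe_le_coe.1 hle))
    exact ⟨e, rfl⟩
  have hAB := Groth.Agent.S0604.result R N e he
  have hCM := (DepthLib.isCohenMacaulayLocalRing_of_isRegularLocalRing (R := R)).supportDim_eq_depth
  rw [Module.supportDim_self_eq_ringKrullDim, hAB, hd,
    IsLocalization.AtPrime.ringKrullDim_eq_height q.asIdeal R] at hCM
  obtain ⟨hadd, hlt⟩ := hB η q hηq hmin
  haveI : Nontrivial (B ⧸ q.asIdeal) := Ideal.Quotient.nontrivial_iff.2 q.2.ne_top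
  have h0 : (0 : WithBot ℕ∞) ≤ ringKrullDim (B ⧸ q.asIdeal) := ringKrullDim_nonneg_of_nontrivial
  have hq : ringKrullDim (B ⧸ q.asIdeal) < ⊤ :=
    lt_of_le_of_lt (ringKrullDim_le_of_surjective (Ideal.Quotient.factor hηq) (Ideal.Quotient.factor_surjective hηq)) hlt
  obtain ⟨c, hc⟩ : ∃ c : ℕ, ringKrullDim (B ⧸ q.asIdeal) = c := by
    match hz : ringKrullDim (B ⧸ q.asIdeal), h0, hq with
    | ⊥, h0, _ => exact absurd h0 (by simp)
    | (⊤ : ℕ∞), _, h1 => exact absurd h1 (lt_irrefl _)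
    | (c : ℕ), _, _ => exact ⟨c, rfl⟩
  refine ⟨d + c, e, d + c + e, rfl, ?_, ?_, he⟩
  · rw [f, hd, hc]
    push_cast
    rfl
  · rw [← hadd, hc, hCM]
    push_cast
    abel

/-- Lower semicontinuity, and constancy along closures. -/
theorem exists_nhd (hB : Additive B) (M : Type u) [AddCommGroup M] [Module B M] [Module.Finite B M]
    (q₀ : PrimeSpectrum B) :
    ∃ V : Set (PrimeSpectrum B), IsOpen V ∧ q₀ ∈ V ∧
      ∀ q ∈ V, f M q₀ ≤ f M q ∧ (q₀ ≤ q → f M q = f M q₀) := by
  by_cases hM : Subsingleton (LocalizedModule q₀.asIdeal.primeCompl M)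
  · refine ⟨(Module.support B M)ᶜ, (Module.isClosed_support).isOpen_compl,
      Module.notMem_support_iff.2 hM, fun q hq => ?_⟩
    rw [f_eq_top q₀ hM, f_eq_top q (Module.notMem_support_iff.1 hq)]
    exact ⟨le_rfl, fun _ => rfl⟩
  · obtain ⟨η, a, ha, hη⟩ := exists_nhd_minimal q₀
    obtain ⟨v, e, D, hsum, hv, hD, he⟩ := exists_eq hB η q₀ (hη q₀ ha).1 (hη q₀ ha).2 hM
    let G : ℕ → Set (PrimeSpectrum B) := fun n => {p |
      projectiveDimension (ModuleCat.of (Localization.AtPrime p.asIdeal) (LocalizedModule p.asIdeal.primeCompl M)) ≤ n}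
    have hG : ∀ n, IsOpen (G n) := fun n => Groth.Agent.S2677.result B M n
    refine ⟨G e ∩ PrimeSpectrum.basicOpen a, (hG e).inter (PrimeSpectrum.basicOpen a).2, ⟨he.le, ha⟩,
      fun q hq => ?_⟩
    by_cases hMq : Subsingleton (LocalizedModule q.asIdeal.primeCompl M)
    · rw [f_eq_top q hMq]
      refine ⟨le_top, fun hle => absurd hMq ?_⟩
      rw [← Module.notMem_support_iff, not_not]
      exact Module.mem_support_mono hle (Module.mem_support_iff.2 (not_subsingleton_iff_nontrivial.1 hM))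
    · obtain ⟨v', e', D', hsum', hv', hD', he'⟩ := exists_eq hB η q (hη q hq.2).1 (hη q hq.2).2 hMq
      have h1 : e' ≤ e := by
        have := hq.1
        simp only [G, Set.mem_setOf_eq, he'] at this
        exact_mod_cast this
      have h2 : D = D' := by exact_mod_cast hD.symm.trans hD'
      rw [hv, hv']
      refine ⟨by exact_mod_cast (show v ≤ v' by omega), fun hle => ?_⟩
      have h3 : q₀ ∈ G e' := ((PrimeSpectrum.le_iff_specializes q₀ q).1 hle).mem_open (hG e') he'.le
      simp only [G, Set.mem_setOf_eq, he] at h3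
      have h3' : e ≤ e' := by exact_mod_cast h3
      exact_mod_cast (show v' = v by omega)

end Groth.Agent.RectDepth5
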