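import Groth.Agent.Lib.RectDepth5.Alg
import Groth.Agent.S4889
import Mathlib.RingTheory.RegularLocalRing.Polynomial

/-!
Rectified depth on schemes of finite type over a regular biequidimensional base.
-/

set_option autoImplicit false
set_option linter.style.haveILetI false
set_option backward.isDefEq.respectTransparency false

universe u

open CategoryTheory AlgebraicGeometry TopologicalSpace Topology

namespace Groth.Agent.RectDepth5

theorem dim_closure_singleton (B : Type u) [CommRing B] (p : PrimeSpectrum B) :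
    topologicalKrullDim ↥(closure ({p} : Set (PrimeSpectrum B))) = ringKrullDim (B ⧸ p.asIdeal) := by
  have h := PrimeSpectrum.isClosedEmbedding_comap_of_surjective (B ⧸ p.asIdeal) (Ideal.Quotient.mk p.asIdeal)
    Ideal.Quotient.mk_surjective
  have hr : Set.range (PrimeSpectrum.comap (Ideal.Quotient.mk p.asIdeal)) = closure {p} := by
    rw [range_comap_of_surjective _ _ Ideal.Quotient.mk_surjective, Ideal.mk_ker, PrimeSpectrum.closure_singleton]
  rw [← PrimeSpectrum.topologicalKrullDim_eq_ringKrullDim]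
  exact (IsHomeomorph.topologicalKrullDim_eq _
    (h.isEmbedding.toHomeomorph.trans (Homeomorph.setCongr hr)).isHomeomorph).symm

theorem isRegularRing_sections {X : Scheme.{u}} (hreg : ∀ x : X, IsRegularLocalRing (X.presheaf.stalk x))
    [IsLocallyNoetherian X] {A : X.Opens} (hA : IsAffineOpen A) : IsRegularRing Γ(X, A) := by
  haveI := IsLocallyNoetherian.component_noetherian (X := X) ⟨A, hA⟩
  refine isRegularRing_iff.2 fun p hp => ?_
  have hy : hA.fromSpec ⟨p, hp⟩ ∈ A := hA.range_fromSpec.le ⟨_, rfl⟩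
  let := TopCat.Presheaf.algebra_section_stalk X.presheaf (⟨hA.fromSpec ⟨p, hp⟩, hy⟩ : A)
  have he : hA.primeIdealOf ⟨hA.fromSpec ⟨p, hp⟩, hy⟩ = ⟨p, hp⟩ :=
    hA.fromSpec.isOpenEmbedding.injective (hA.fromSpec_primeIdealOf _)
  haveI : IsLocalization.AtPrime (X.presheaf.stalk (hA.fromSpec ⟨p, hp⟩)) p := by
    have h := hA.isLocalization_stalk ⟨hA.fromSpec ⟨p, hp⟩, hy⟩
    rw [he] at h
    exact h
  haveI := hreg (hA.fromSpec ⟨p, hp⟩)
  exact IsRegularLocalRing.of_ringEquiv
    (IsLocalization.algEquiv p.primeCompl (X.presheaf.stalk (hA.fromSpec ⟨p, hp⟩)) (Localization.AtPrime p)).toRingEquiv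

theorem isRegularRing_of_regularLocal (L : Type u) [CommRing L] [IsRegularLocalRing L] : IsRegularRing L :=
  isRegularRing_iff.2 fun p _ => RegLoc.isRegularLocalRing_localization L p

theorem isUniversallyCatenary_stalk {S : Scheme.{u}} (hreg : ∀ s : S, IsRegularLocalRing ↑(S.presheaf.stalk s))
    (s : S) : CAlg.IsUniversallyCatenary (S.presheaf.stalk s) := by
  haveI := hreg s
  haveI := isRegularRing_of_regularLocal (S.presheaf.stalk s)
  haveI := UCat.isCM_of_regular (S.presheaf.stalk s)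
  exact UCat.isUniversallyCatenary_of_cm _

theorem additive_of_lft {S : Scheme.{u}} [IsLocallyNoetherian S] [JacobsonSpace S]
    (h2 : ∀ s : S, CAlg.IsUniversallyCatenary (S.presheaf.stalk s))
    (h3 : ∀ S' ∈ irreducibleComponents (S : Type u), ∀ s ∈ S', IsClosed ({s} : Set S) →
      topologicalKrullDim (↥S' : Type u) = topologicalKrullDim ↥{t : S | t ∈ S' ∧ t ⤳ s})
    (B : CommRingCat.{u}) (p : Spec B ⟶ S) [LocallyOfFiniteType p] : Additive B := by
  haveI : IsLocallyNoetherian (Spec B) := LocallyOfFiniteType.isLocallyNoetherian p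
  haveI : JacobsonSpace (Spec B) := LocallyOfFiniteType.jacobsonSpace p
  obtain ⟨g2, g3⟩ := Groth.Agent.S4889.base_up h2 h3 p
  intro η q hηq hmin
  have h := dim_add_height g2 g3 (g := (η : Spec B)) (x := (q : Spec B))
    ((PrimeSpectrum.le_iff_specializes η q).1 hηq)
    (fun y hy => (PrimeSpectrum.le_iff_specializes η (y : PrimeSpectrum B)).1
      (hmin y ((PrimeSpectrum.le_iff_specializes (y : PrimeSpectrum B) q).2 hy)))
  obtain ⟨n, hn, -, -⟩ := JacobsonDim4.exists_subscheme_dim g2 g3 (𝟙 (Spec B)) (η : Spec B)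
  have hη : topologicalKrullDim ↥(closure ({(η : Spec B)} : Set (Spec B))) = ringKrullDim (B ⧸ η.asIdeal) :=
    dim_closure_singleton B η
  have hq : topologicalKrullDim ↥(closure ({(q : Spec B)} : Set (Spec B))) = ringKrullDim (B ⧸ q.asIdeal) :=
    dim_closure_singleton B q
  letI : Algebra B ((Spec B).presheaf.stalk q) := StructureSheaf.stalkAlgebra B q
  haveI : IsLocalization.AtPrime ((Spec B).presheaf.stalk q) q.asIdeal :=
    StructureSheaf.IsLocalization.to_stalk B q
  have hst : ringKrullDim ((Spec B).presheaf.stalk q) = q.asIdeal.height :=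
    IsLocalization.AtPrime.ringKrullDim_eq_height q.asIdeal _
  rw [hη, hq, hst] at h
  rw [hη] at hn
  exact ⟨h.symm, hn ▸ WithBot.coe_lt_coe.2 (ENat.natCast_lt_top n)⟩

/-- Rectified depth on a scheme. -/
noncomputable def F' {X : Scheme.{u}} (F : X.Modules) (x : X) : WithBot ℕ∞ :=
  ((LocCoh.depth ↑(X.presheaf.stalk x) ↑(F.presheaf.stalk x) : ℕ∞) : WithBot ℕ∞) +
    topologicalKrullDim ↥(closure ({x} : Set X))

variable {X S : Scheme.{u}} [IsLocallyNoetherian S] [JacobsonSpace S]

theorem exists_nhd_scheme (hreg : ∀ s : S, IsRegularLocalRing ↑(S.presheaf.stalk s))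
    (h3 : ∀ S' ∈ irreducibleComponents (S : Type u), ∀ s ∈ S', IsClosed ({s} : Set S) →
      topologicalKrullDim (↥S' : Type u) = topologicalKrullDim ↥{t : S | t ∈ S' ∧ t ⤳ s})
    (g : X ⟶ S) [LocallyOfFiniteType g] (F : X.Modules) (hF : Coh.IsCoh F) (x : X) :
    ∃ W : Set X, IsOpen W ∧ x ∈ W ∧ ∀ z ∈ W, F' F x ≤ F' F z ∧ (x ⤳ z → F' F z = F' F x) := by
  have h2 := isUniversallyCatenary_stalk hreg
  haveI : IsLocallyNoetherian X := LocallyOfFiniteType.isLocallyNoetherian g
  haveI : JacobsonSpace X := LocallyOfFiniteType.jacobsonSpace g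
  obtain ⟨g2, g3⟩ := Groth.Agent.S4889.base_up h2 h3 g
  haveI := hF.1
  obtain ⟨V, hV, hgxV, -⟩ := exists_isAffineOpen_mem_and_subset (x := g x) (U := (⊤ : S.Opens)) trivial
  obtain ⟨U, hU, hxU, hUV⟩ := exists_isAffineOpen_mem_and_subset (x := x) (U := g ⁻¹ᵁ V) hgxV
  haveI := isRegularRing_sections hreg hV
  haveI := M1.finite_sections hF.1 hF.2 hU
  have hft : RingHom.FiniteType (g.appLE V U hUV).hom :=
    HasRingHomProperty.appLE @LocallyOfFiniteType g inferInstance ⟨V, hV⟩ ⟨U, hU⟩ hUV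
  letI := (g.appLE V U hUV).hom.toAlgebra
  haveI : Algebra.FiniteType Γ(S, V) Γ(X, U) := hft
  obtain ⟨n, φ, hφ⟩ := Algebra.FiniteType.iff_quotient_mvPolynomial''.1 (inferInstance : Algebra.FiniteType Γ(S, V) Γ(X, U))
  let B : CommRingCat.{u} := CommRingCat.of (MvPolynomial (Fin n) Γ(S, V))
  haveI : IsRegularRing ↑B := inferInstanceAs (IsRegularRing (MvPolynomial (Fin n) Γ(S, V)))
  haveI : LocallyOfFiniteType (Spec.map (CommRingCat.ofHom (MvPolynomial.C : Γ(S, V) →+* MvPolynomial (Fin n) Γ(S, V)))) := by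
    rw [HasRingHomProperty.Spec_iff (P := @LocallyOfFiniteType)]
    show (algebraMap Γ(S, V) (MvPolynomial (Fin n) Γ(S, V))).FiniteType
    exact RingHom.finiteType_algebraMap.2 inferInstance
  have hB : Additive ↑B := additive_of_lft h2 h3 B
    (Spec.map (CommRingCat.ofHom (MvPolynomial.C : Γ(S, V) →+* MvPolynomial (Fin n) Γ(S, V))) ≫ hV.fromSpec)
  letI : Algebra ↑B Γ(X, U) := φ.toRingHom.toAlgebra
  have hs : Function.Surjective (algebraMap ↑B Γ(X, U)) := hφ
  letI : Module ↑B Γ(F, U) := Module.compHom _ (algebraMap ↑B Γ(X, U))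
  haveI : IsScalarTower ↑B Γ(X, U) Γ(F, U) := IsScalarTower.of_algebraMap_smul fun _ _ => rfl
  haveI : Module.Finite ↑B Γ(X, U) := Module.Finite.of_surjective (Algebra.linearMap ↑B Γ(X, U)) hs
  haveI : Module.Finite ↑B Γ(F, U) := Module.Finite.trans Γ(X, U) Γ(F, U)
  let π : ↥U → PrimeSpectrum ↑B := fun z => PrimeSpectrum.comap (algebraMap ↑B Γ(X, U)) (hU.primeIdealOf z)
  -- the comparison at a point
  have key : ∀ z : ↥U, F' F z.1 = f (Γ(F, U) : Type u) (π z) := by
    intro z
    unfold F' f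
    congr 1
    · congr 1
      letI := M1.stalkModule F z.2
      haveI := M1.isLocalizedModule_germ F hU z.2
      letI : Algebra Γ(X, U) (X.presheaf.stalk z.1) := (X.presheaf.germ U z.1 z.2).hom.toAlgebra
      haveI := hU.isLocalization_stalk z
      haveI : IsScalarTower Γ(X, U) (X.presheaf.stalk z.1) (F.presheaf.stalk z.1 : Type u) :=
        IsScalarTower.of_algebraMap_smul fun _ _ => rfl
      let p := (hU.primeIdealOf z).asIdeal
      let Q : Ideal ↑B := (π z).asIdeal
      let LQ := Localization.AtPrime (π z).asIdeal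
      have hu : ∀ y : Q.primeCompl, IsUnit (((algebraMap Γ(X, U) (X.presheaf.stalk z.1)).comp (algebraMap ↑B Γ(X, U))) y) :=
        fun y => IsLocalization.map_units (X.presheaf.stalk z.1) (⟨algebraMap ↑B Γ(X, U) y.1, y.2⟩ : p.primeCompl)
      letI : Algebra LQ (X.presheaf.stalk z.1) := (IsLocalization.lift (S := LQ) hu).toAlgebra
      have hsurj : Function.Surjective (algebraMap LQ (X.presheaf.stalk z.1)) := fun y => by
        obtain ⟨a, ⟨b, hb⟩, rfl⟩ := IsLocalization.exists_mk'_eq p.primeCompl y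
        obtain ⟨a, rfl⟩ := hs a
        obtain ⟨b, rfl⟩ := hs b
        refine ⟨IsLocalization.mk' LQ a (⟨b, hb⟩ : Q.primeCompl), ?_⟩
        show IsLocalization.lift hu _ = _
        rw [IsLocalization.lift_mk'_spec]
        exact (IsLocalization.mk'_spec' (M := p.primeCompl) (X.presheaf.stalk z.1) (algebraMap ↑B Γ(X, U) a)
          ⟨algebraMap ↑B Γ(X, U) b, hb⟩).symm
      letI : Module LQ (F.presheaf.stalk z.1 : Type u) := Module.compHom _ (algebraMap LQ (X.presheaf.stalk z.1))
      haveI : IsScalarTower LQ (X.presheaf.stalk z.1) (F.presheaf.stalk z.1 : Type u) :=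
        IsScalarTower.of_algebraMap_smul fun _ _ => rfl
      letI : Module ↑B (F.presheaf.stalk z.1 : Type u) := Module.compHom _ (algebraMap ↑B Γ(X, U))
      haveI : IsScalarTower ↑B Γ(X, U) (F.presheaf.stalk z.1 : Type u) := IsScalarTower.of_algebraMap_smul fun _ _ => rfl
      haveI : IsScalarTower ↑B LQ (F.presheaf.stalk z.1 : Type u) := IsScalarTower.of_algebraMap_smul fun a y => by
        show IsLocalization.lift hu (algebraMap ↑B LQ a) • y = algebraMap ↑B Γ(X, U) a • y
        rw [IsLocalization.lift_eq]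
        rfl
      haveI : IsLocalizedModule Q.primeCompl ((M1.germₗ F z.2).restrictScalars ↑B) :=
        FibDepth5.isLocalizedModule_of_surjective hs p (M1.germₗ F z.2)
      rw [← FlatDepth.depth_eq_of_surjective (F.presheaf.stalk z.1 : Type u) hsurj]
      exact DepthLib.idealDepth_congr
        ((IsLocalizedModule.iso (π z).asIdeal.primeCompl ((M1.germₗ F z.2).restrictScalars ↑B)).extendScalarsOfIsLocalization
          (π z).asIdeal.primeCompl LQ).symm
    · obtain ⟨N, hN, hO, -⟩ := JacobsonDim4.exists_subscheme_dim g2 g3 (𝟙 X) z.1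
      rw [hN, ← hO U U.2 z.2]
      let e : PrimeSpectrum (↑B ⧸ (π z).asIdeal) ≃o PrimeSpectrum (Γ(X, U) ⧸ (hU.primeIdealOf z).asIdeal) :=
        PrimeSpectrum.comapEquiv (RingEquiv.ofBijective
          (Ideal.quotientMap (hU.primeIdealOf z).asIdeal (algebraMap ↑B Γ(X, U)) le_rfl)
          ⟨Ideal.quotientMap_injective, Ideal.quotientMap_surjective hs⟩)
      have h1 : ringKrullDim (↑B ⧸ (π z).asIdeal) = ringKrullDim (Γ(X, U) ⧸ (hU.primeIdealOf z).asIdeal) :=
        Order.krullDim_eq_of_orderIso e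
      rw [h1, ← dim_closure_singleton]
      have hemb : IsEmbedding fun a : ↥(closure ({hU.primeIdealOf z} : Set (PrimeSpectrum Γ(X, U)))) => hU.fromSpec a.1 :=
        hU.fromSpec.isOpenEmbedding.isEmbedding.comp IsEmbedding.subtypeVal
      refine (IsHomeomorph.topologicalKrullDim_eq _
        (hemb.toHomeomorph.trans (Homeomorph.setCongr ?_)).isHomeomorph).symm
      ext a
      constructor
      · rintro ⟨⟨q, hq⟩, rfl⟩
        refine ⟨hU.range_fromSpec.le ⟨_, rfl⟩, ?_⟩
        have := (specializes_iff_mem_closure.2 hq).map hU.fromSpec.continuous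
        rw [hU.fromSpec_primeIdealOf] at this
        exact specializes_iff_mem_closure.1 this
      · rintro ⟨ha, hac⟩
        refine ⟨⟨hU.primeIdealOf ⟨a, ha⟩, specializes_iff_mem_closure.1
          (hU.fromSpec.isOpenEmbedding.isInducing.specializes_iff.1 ?_)⟩, hU.fromSpec_primeIdealOf _⟩
        rw [hU.fromSpec_primeIdealOf, hU.fromSpec_primeIdealOf]
        exact specializes_iff_mem_closure.2 hac
  obtain ⟨O, hO, hxO, hOf⟩ := exists_nhd hB (Γ(F, U) : Type u) (π ⟨x, hxU⟩)
  have hπ : Continuous π := (PrimeSpectrum.continuous_comap _).comp (by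
    rw [hU.fromSpec.isOpenEmbedding.isInducing.continuous_iff]
    convert continuous_subtype_val using 1
    exact funext fun z => hU.fromSpec_primeIdealOf z)
  refine ⟨Subtype.val '' (π ⁻¹' O), U.2.isOpenMap_subtype_val _ (hO.preimage hπ), ⟨⟨x, hxU⟩, hxO, rfl⟩, ?_⟩
  rintro _ ⟨z, hz, rfl⟩
  rw [key z]
  refine ⟨(key ⟨x, hxU⟩).trans_le (hOf _ hz).1, fun hxz => ?_⟩
  rw [show F' F x = _ from key ⟨x, hxU⟩]
  exact (hOf _ hz).2 ((PrimeSpectrum.le_iff_specializes _ _).2
    ((subtype_specializes_iff (⟨x, hxU⟩ : ↥U) z).2 hxz |>.map hπ))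

end Groth.Agent.RectDepth5
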